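import Mathlib.AlgebraicGeometry.FunctionField
import Mathlib.AlgebraicGeometry.Morphisms.Separated
import Mathlib.AlgebraicGeometry.Morphisms.Immersion
import Mathlib.RingTheory.LocalRing.LocalSubring

universe u

open CategoryTheory AlgebraicGeometry Limits

namespace Groth.Agent.SepLocal

/-- Two morphisms from the spectrum of a domain to a separated scheme agree once they agree after
composition with an injective map to another ring. -/
theorem specHom_ext {X : Scheme.{u}} [X.IsSeparated] {R S : CommRingCat.{u}} [IsDomain R]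
    (i : R ⟶ S) (hi : Function.Injective i) {φ ψ : Spec R ⟶ X}
    (h : Spec.map i ≫ φ = Spec.map i ≫ ψ) : φ = ψ := by
  have : IsDominant (Spec.map i) := by
    refine ⟨?_⟩
    refine (PrimeSpectrum.denseRange_comap_iff_ker_le_nilRadical i.hom).mpr ?_
    rw [(RingHom.injective_iff_ker_eq_bot _).mp hi]
    exact bot_le
  exact ext_of_isDominant (Spec.map i) h

/-- A local homomorphism `f : R →+* S` from a local ring, followed by an inclusion, is dominated. -/
theorem range_le_of_factor {R K : Type u} [CommRing R] [IsLocalRing R] [CommRing K] [Nontrivial K]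
    (f : R →+* K) (Q : LocalSubring K) (j : R →+* Q.toSubring) [IsLocalHom j]
    (h : Q.toSubring.subtype.comp j = f) : LocalSubring.range f ≤ Q := by
  subst h
  refine ⟨?_, ⟨?_⟩⟩
  · rintro _ ⟨a, rfl⟩
    exact (j a).2
  · rintro ⟨_, a, rfl⟩ ha
    have : IsUnit (j a) := ha
    exact (this.of_map).map (Q.toSubring.subtype.comp j).rangeRestrict

theorem exists_factor_of_range_le {R K : Type u} [CommRing R] [IsLocalRing R] [CommRing K]
    [Nontrivial K] (f : R →+* K) (Q : LocalSubring K) (h : LocalSubring.range f ≤ Q) :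
    ∃ j : R →+* Q.toSubring, IsLocalHom j ∧ Q.toSubring.subtype.comp j = f := by
  obtain ⟨h₁, h₂⟩ := h
  refine ⟨(Subring.inclusion h₁).comp f.rangeRestrict, ?_, rfl⟩
  have : IsLocalHom f.rangeRestrict :=
    IsLocalHom.of_surjective _ f.rangeRestrict_surjective
  exact @RingHom.isLocalHom_comp _ _ _ _ _ _ _ _ h₂ this

variable (X : Scheme.{u}) [IsIntegral X]

/-- The map from a local ring of an integral scheme to the function field. -/
noncomputable abbrev toK (x : X) : X.presheaf.stalk x ⟶ X.functionField :=
  X.presheaf.stalkSpecializes (genericPoint_specializes x)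

theorem toK_injective (x : X) : Function.Injective (toK X x) :=
  IsFractionRing.injective (X.presheaf.stalk x) X.functionField

theorem algebraMap_eq_toK (x : X) :
    algebraMap (X.presheaf.stalk x) X.functionField = (toK X x).hom := rfl

variable {X}

theorem stalkClosedPointTo_comp {R : CommRingCat.{u}} [IsLocalRing R] (f : Spec R ⟶ X)
    (g : R ⟶ X.functionField) (h : Spec.map g ≫ f = X.fromSpecStalk (genericPoint X)) :
    Scheme.stalkClosedPointTo f ≫ g = toK X (f (IsLocalRing.closedPoint R)) := by
  apply Spec.map_injective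
  rw [← cancel_mono (X.fromSpecStalk _), Spec.map_comp, Category.assoc,
    Scheme.Spec_stalkClosedPointTo_fromSpecStalk, Scheme.SpecMap_stalkSpecializes_fromSpecStalk, h]

/-- The two points attached to a dominating subring agree if `X` is separated. -/
theorem eq_of_dominated [X.IsSeparated] (x y : X) (Q : LocalSubring X.functionField)
    (hx : LocalSubring.range (algebraMap (X.presheaf.stalk x) X.functionField) ≤ Q)
    (hy : LocalSubring.range (algebraMap (X.presheaf.stalk y) X.functionField) ≤ Q) : x = y := by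
  obtain ⟨jx, hjx, ex⟩ := exists_factor_of_range_le _ Q hx
  obtain ⟨jy, hjy, ey⟩ := exists_factor_of_range_le _ Q hy
  let i : CommRingCat.of Q.toSubring ⟶ X.functionField := CommRingCat.ofHom Q.toSubring.subtype
  have h : Spec.map (CommRingCat.ofHom jx) ≫ X.fromSpecStalk x =
      Spec.map (CommRingCat.ofHom jy) ≫ X.fromSpecStalk y := by
    refine specHom_ext i Subtype.val_injective ?_
    rw [← Spec.map_comp_assoc, ← Spec.map_comp_assoc,
      show CommRingCat.ofHom jx ≫ i = toK X x from CommRingCat.hom_ext ex,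
      show CommRingCat.ofHom jy ≫ i = toK X y from CommRingCat.hom_ext ey,
      Scheme.SpecMap_stalkSpecializes_fromSpecStalk, Scheme.SpecMap_stalkSpecializes_fromSpecStalk]
  have hc (z : X) (j : X.presheaf.stalk z →+* Q.toSubring) [IsLocalHom j] :
      (Spec.map (CommRingCat.ofHom j) ≫ X.fromSpecStalk z)
        (IsLocalRing.closedPoint Q.toSubring) = z := by
    refine Eq.trans ?_ (Scheme.fromSpecStalk_closedPoint (x := z))
    exact congrArg (X.fromSpecStalk z) (IsLocalRing.comap_closedPoint j)
  have e := congrArg (fun φ : Spec (CommRingCat.of Q.toSubring) ⟶ X =>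
    φ (IsLocalRing.closedPoint Q.toSubring)) h
  exact (hc x jx).symm.trans (e.trans (hc y jy))

/-- The map from the sections over a nonempty open into the function field. -/
noncomputable abbrev secK (U : X.Opens) [Nonempty U] : Γ(X, U) ⟶ X.functionField := X.germToFunctionField U

theorem specMap_secK_fromSpec {U : X.Opens} (hU : IsAffineOpen U) [Nonempty U] :
    Spec.map (secK U) ≫ hU.fromSpec = X.fromSpecStalk (genericPoint X) :=
  hU.fromSpecStalk_eq_fromSpecStalk _

/-- The criterion: distinct points have local rings that are not dominated by a common local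
subring, hence the scheme is separated. -/
theorem isSeparated_of_eq_of_dominated
    (H : ∀ (x y : X) (Q : LocalSubring X.functionField),
      LocalSubring.range (algebraMap (X.presheaf.stalk x) X.functionField) ≤ Q →
      LocalSubring.range (algebraMap (X.presheaf.stalk y) X.functionField) ≤ Q → x = y) :
    X.IsSeparated := by
  let t := terminal.from X
  let Δ : X ⟶ pullback t t := pullback.diagonal t
  suffices hcl : IsClosed (Set.range Δ) by
    exact ⟨⟨IsClosedImmersion.of_isPreimmersion _ hcl⟩⟩
  refine isOpen_compl_iff.mp (isOpen_iff_forall_mem_open.mpr fun w hw => ?_)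
  obtain ⟨_, ⟨U : X.Opens, hU : IsAffineOpen U, rfl⟩, hwU, -⟩ :=
    X.isBasis_affineOpens.exists_subset_of_mem_open (Set.mem_univ (pullback.fst t t w)) isOpen_univ
  obtain ⟨_, ⟨V : X.Opens, hV : IsAffineOpen V, rfl⟩, hwV, -⟩ :=
    X.isBasis_affineOpens.exists_subset_of_mem_open (Set.mem_univ (pullback.snd t t w)) isOpen_univ
  have : Nonempty U := ⟨⟨_, hwU⟩⟩
  have : Nonempty V := ⟨⟨_, hwV⟩⟩
  have : IsAffine U.toScheme := hU
  have : IsAffine V.toScheme := hV
  let C : Subring X.functionField := (secK U).hom.range ⊔ (secK V).hom.range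
  let CC := CommRingCat.of C
  let φA : Γ(X, U) ⟶ CC := CommRingCat.ofHom
    ((secK U).hom.codRestrict C fun a => le_sup_left (b := (secK V).hom.range) ⟨a, rfl⟩)
  let φB : Γ(X, V) ⟶ CC := CommRingCat.ofHom
    ((secK V).hom.codRestrict C fun a => le_sup_right (a := (secK U).hom.range) ⟨a, rfl⟩)
  let inc : CC ⟶ X.functionField := CommRingCat.ofHom C.subtype
  have hA : φA ≫ inc = secK U := rfl
  have hB : φB ≫ inc = secK V := rfl
  let pA : Spec CC ⟶ X := Spec.map φA ≫ hU.fromSpec
  let pB : Spec CC ⟶ X := Spec.map φB ≫ hV.fromSpec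
  let M := pullback (U.ι ≫ t) (V.ι ≫ t)
  let m : M ⟶ pullback t t := pullback.map _ _ _ _ U.ι V.ι (𝟙 _) (by simp) (by simp)
  let h : Spec CC ⟶ M := pullback.lift (Spec.map φA ≫ hU.isoSpec.inv)
    (Spec.map φB ≫ hV.isoSpec.inv) (terminalIsTerminal.hom_ext _ _)
  have hfst : h ≫ m ≫ pullback.fst t t = pA := by
    simp only [h, m, pA, pullback.map, pullback.lift_fst, pullback.lift_fst_assoc, Category.assoc,
      IsAffineOpen.isoSpec_inv_ι]
  have hsnd : h ≫ m ≫ pullback.snd t t = pB := by
    simp only [h, m, pB, pullback.map, pullback.lift_snd, pullback.lift_snd_assoc, Category.assoc,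
      IsAffineOpen.isoSpec_inv_ι]
  have hclosed : IsClosed (Set.range h) := by
    let ψ : Γ(M, ⊤) ⟶ CC := Spec.preimage (h ≫ M.isoSpec.hom)
    have hψ : Spec.map ψ = h ≫ M.isoSpec.hom := Spec.map_preimage _
    have hsurj : Function.Surjective ψ := by
      have key : ∀ {A : CommRingCat.{u}} (φ : A ⟶ CC) {Z : Scheme.{u}} (q : M ⟶ Z)
          (e : Z ≅ Spec A), h ≫ q = Spec.map φ ≫ e.inv → φ.hom.range ≤ ψ.hom.range := by
        intro A φ Z q e hq
        have : φ = Spec.preimage (M.isoSpec.inv ≫ q ≫ e.hom) ≫ ψ := by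
          apply Spec.map_injective
          simp [hψ, reassoc_of% hq]
        rintro _ ⟨a, rfl⟩
        exact ⟨Spec.preimage (M.isoSpec.inv ≫ q ≫ e.hom) a, congr($this a).symm⟩
      have h1 := key φA (pullback.fst _ _) hU.isoSpec (pullback.lift_fst _ _ _)
      have h2 := key φB (pullback.snd _ _) hV.isoSpec (pullback.lift_snd _ _ _)
      have hle : C ≤ Subring.map inc.hom ψ.hom.range := by
        refine sup_le ?_ ?_
        · rintro _ ⟨a, rfl⟩; exact ⟨φA a, h1 ⟨a, rfl⟩, rfl⟩
        · rintro _ ⟨a, rfl⟩; exact ⟨φB a, h2 ⟨a, rfl⟩, rfl⟩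
      rintro ⟨c, hc⟩
      obtain ⟨d, ⟨a, ha⟩, hd⟩ := hle hc
      exact ⟨a, ha.trans (Subtype.ext hd)⟩
    have : IsClosedImmersion (Spec.map ψ) := IsClosedImmersion.spec_of_surjective _ hsurj
    have : h = Spec.map ψ ≫ M.isoSpec.inv := by simp [hψ]
    rw [this]
    exact (Spec.map ψ ≫ M.isoSpec.inv).isClosedEmbedding.isClosed_range
  refine ⟨m '' (Set.range h)ᶜ, ?_, m.isOpenEmbedding.isOpenMap _ hclosed.isOpen_compl, ?_⟩
  · rintro _ ⟨v, hv, rfl⟩ ⟨z, hz⟩
    have hzfst : pullback.fst t t (m v) = z := by
      rw [← hz, ← Scheme.Hom.comp_apply, pullback.diagonal_fst]; rfl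
    have hzsnd : pullback.snd t t (m v) = z := by
      rw [← hz, ← Scheme.Hom.comp_apply, pullback.diagonal_snd]; rfl
    have hzU : z ∈ U := by
      rw [← hzfst, ← Scheme.Hom.comp_apply, pullback.lift_fst, Scheme.Hom.comp_apply]
      exact (pullback.fst (U.ι ≫ t) (V.ι ≫ t) v).2
    have hzV : z ∈ V := by
      rw [← hzsnd, ← Scheme.Hom.comp_apply, pullback.lift_snd, Scheme.Hom.comp_apply]
      exact (pullback.snd (U.ι ≫ t) (V.ι ≫ t) v).2
    have hC : C ≤ (toK X z).hom.range := by
      refine sup_le ?_ ?_
      · rintro _ ⟨a, rfl⟩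
        exact ⟨X.presheaf.germ U z hzU a, congr($(X.presheaf.germ_stalkSpecializes hzU _) a)⟩
      · rintro _ ⟨a, rfl⟩
        exact ⟨X.presheaf.germ V z hzV a, congr($(X.presheaf.germ_stalkSpecializes hzV _) a)⟩
    choose k hk using fun c : C => hC c.2
    let kk : CC ⟶ X.presheaf.stalk z := CommRingCat.ofHom
      { toFun := k
        map_one' := toK_injective X z ((hk 1).trans (map_one (toK X z).hom).symm)
        map_mul' := fun a b => toK_injective X z ((hk _).trans ((map_mul (toK X z).hom _ _).trans (by rw [hk, hk]; rfl)).symm)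
        map_zero' := toK_injective X z ((hk 0).trans (map_zero (toK X z).hom).symm)
        map_add' := fun a b => toK_injective X z ((hk _).trans ((map_add (toK X z).hom _ _).trans (by rw [hk, hk]; rfl)).symm) }
    have hkA : φA ≫ kk = X.presheaf.germ U z hzU := by
      ext a
      exact toK_injective X z ((hk (φA a)).trans
        (congr($(X.presheaf.germ_stalkSpecializes hzU (genericPoint_specializes z)) a)).symm)
    have hkB : φB ≫ kk = X.presheaf.germ V z hzV := by
      ext a
      exact toK_injective X z ((hk (φB a)).trans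
        (congr($(X.presheaf.germ_stalkSpecializes hzV (genericPoint_specializes z)) a)).symm)
    have e : Spec.map kk ≫ h ≫ m = X.fromSpecStalk z ≫ Δ := by
      apply pullback.hom_ext
      · rw [Category.assoc, Category.assoc, Category.assoc, hfst, pullback.diagonal_fst,
          Category.comp_id, ← hU.fromSpecStalk_eq_fromSpecStalk hzU]
        simp only [pA, ← Spec.map_comp_assoc, hkA]
        rfl
      · rw [Category.assoc, Category.assoc, Category.assoc, hsnd, pullback.diagonal_snd,
          Category.comp_id, ← hV.fromSpecStalk_eq_fromSpecStalk hzV]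
        simp only [pB, ← Spec.map_comp_assoc, hkB]
        rfl
    refine hv ⟨Spec.map kk (IsLocalRing.closedPoint (X.presheaf.stalk z)),
      m.isOpenEmbedding.injective ?_⟩
    have := congrArg (fun φ : Spec (X.presheaf.stalk z) ⟶ pullback t t =>
      φ (IsLocalRing.closedPoint (X.presheaf.stalk z))) e
    exact (this.trans (congrArg Δ Scheme.fromSpecStalk_closedPoint)).trans hz
  · obtain ⟨v, hv⟩ : w ∈ Set.range m := by
      rw [Scheme.Pullback.range_map]
      exact ⟨by simpa using hwU, by simpa using hwV⟩
    refine ⟨v, ?_, hv⟩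
    rintro ⟨r, rfl⟩
    apply hw
    let r' : PrimeSpectrum C := r
    have : r'.asIdeal.IsPrime := r'.isPrime
    let Q : LocalSubring X.functionField := LocalSubring.ofPrime C r'.asIdeal
    let QQ := CommRingCat.of Q.toSubring
    have hCQ : C ≤ Q.toSubring := LocalSubring.le_ofPrime _ _
    let c : CC ⟶ QQ := CommRingCat.ofHom (Subring.inclusion hCQ)
    let iQ : QQ ⟶ X.functionField := CommRingCat.ofHom Q.toSubring.subtype
    have hcl' : Spec.map c (IsLocalRing.closedPoint Q.toSubring) = r :=
      PrimeSpectrum.ext (IsLocalization.AtPrime.under_maximalIdeal Q.toSubring r'.asIdeal)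
    have main : ∀ φ : Spec QQ ⟶ X, Spec.map iQ ≫ φ = X.fromSpecStalk (genericPoint X) →
        LocalSubring.range (algebraMap (X.presheaf.stalk (φ (IsLocalRing.closedPoint QQ)))
          X.functionField) ≤ Q := fun φ hφ =>
      range_le_of_factor _ Q (Scheme.stalkClosedPointTo φ).hom
        congr($(stalkClosedPointTo_comp φ iQ hφ).hom)
    have gA : Spec.map iQ ≫ Spec.map c ≫ pA = X.fromSpecStalk (genericPoint X) := by
      simp only [pA, ← Spec.map_comp_assoc]
      exact specMap_secK_fromSpec hU
    have gB : Spec.map iQ ≫ Spec.map c ≫ pB = X.fromSpecStalk (genericPoint X) := by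
      simp only [pB, ← Spec.map_comp_assoc]
      exact specMap_secK_fromSpec hV
    have hxy := H _ _ Q (main _ gA) (main _ gB)
    have hφ : Spec.map c ≫ pA = Spec.map c ≫ pB := by
      have eA := stalkClosedPointTo_comp _ iQ gA
      have eB := stalkClosedPointTo_comp _ iQ gB
      rw [← Scheme.Spec_stalkClosedPointTo_fromSpecStalk (Spec.map c ≫ pA),
        ← Scheme.Spec_stalkClosedPointTo_fromSpecStalk (Spec.map c ≫ pB)]
      generalize Scheme.stalkClosedPointTo (Spec.map c ≫ pA) = ja at eA ⊢
      generalize Scheme.stalkClosedPointTo (Spec.map c ≫ pB) = jb at eB ⊢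
      generalize (Spec.map c ≫ pA) (IsLocalRing.closedPoint QQ) = x at hxy ja eA ⊢
      subst hxy
      congr 2
      ext a
      exact (congr($eA a)).trans (congr($eB a)).symm
    have eq : Spec.map c ≫ h ≫ m = (Spec.map c ≫ pA) ≫ Δ := by
      apply pullback.hom_ext
      · simp only [Category.assoc, hfst, Δ, pullback.diagonal_fst, Category.comp_id]
      · rw [Category.assoc, Category.assoc, hsnd, Category.assoc]
        simp only [Δ, pullback.diagonal_snd, Category.comp_id, hφ]
    refine ⟨(Spec.map c ≫ pA) (IsLocalRing.closedPoint Q.toSubring), ?_⟩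
    refine ((congrArg (fun φ : Spec QQ ⟶ pullback t t =>
      φ (IsLocalRing.closedPoint Q.toSubring)) eq).symm.trans ?_).trans hv
    exact congrArg (fun z => m (h z)) hcl'

end Groth.Agent.SepLocal
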